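import Cfsg.Agent.H43.NoEleven

/-! The orthogonal groups of dimension seven over the field with three elements have order prime
to eleven. -/

set_option autoImplicit false

namespace Cfsg.Agent.H89.NoEleven

open Polynomial QuadraticMap H43.NoEleven

variable {V : Type*} [AddCommGroup V] [Module (ZMod 3) V] [FiniteDimensional (ZMod 3) V]
  (B : LinearMap.BilinForm (ZMod 3) V) (f : Module.End (ZMod 3) V)

/-- The kernel of the first factor is trivial. -/
theorem ker_eq_bot (hnd : B.Nondegenerate) (hrefl : B.IsRefl)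
    (hdim : Module.finrank (ZMod 3) V = 7) (hB : ∀ u v, B (f u) (f v) = B u v) (hf : f ^ 11 = 1) :
    ∀ x, aeval f fiveA x = 0 → x = 0 := by
  set S := LinearMap.ker (aeval f fiveA) with hS
  have hle : S ≤ B.orthogonal S := fun x hx y hy =>
    isotropic B f hB hf (LinearMap.mem_ker.1 hy) (LinearMap.mem_ker.1 hx)
  have h3 : Module.finrank (ZMod 3) S ≤ 3 := by
    have h1 := Submodule.finrank_mono hle
    have h2 := B.finrank_orthogonal hnd S
    omega
  suffices h : Module.finrank (ZMod 3) S = 0 by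
    intro x hx
    have : x ∈ S := LinearMap.mem_ker.2 hx
    rwa [Submodule.finrank_eq_zero.1 h, Submodule.mem_bot] at this
  -- a group of order eleven acts on the kernel fixing only zero
  have hmem : ∀ x ∈ S, f x ∈ S := fun x hx => by
    rw [hS, LinearMap.mem_ker] at hx ⊢
    rw [show f x = aeval f (X : (ZMod 3)[X]) x by rw [aeval_X], ← Module.End.mul_apply, ← map_mul,
      mul_comm, map_mul, Module.End.mul_apply, hx, map_zero]
  have hp : ∀ x : V, f (((f ^ 10) : Module.End (ZMod 3) V) x) = x ∧ (f ^ 10) (f x) = x := fun x =>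
    ⟨by rw [← Module.End.mul_apply, ← pow_succ', hf]; rfl,
      by rw [← Module.End.mul_apply, ← pow_succ, hf]; rfl⟩
  have hmem' : ∀ k, ∀ x ∈ S, (f ^ k) x ∈ S := fun k => by
    induction k with
    | zero => intro x hx; simpa using hx
    | succ k ih => intro x hx; rw [pow_succ, Module.End.mul_apply]; exact ih _ (hmem x hx)
  let σ : Equiv.Perm ↥S :=
    { toFun := fun x => ⟨f x, hmem x x.2⟩
      invFun := fun x => ⟨(f ^ 10) x, hmem' 10 x x.2⟩
      left_inv := fun x => Subtype.ext (hp x).2
      right_inv := fun x => Subtype.ext (hp x).1 }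
  have hσ : ∀ k : ℕ, ∀ x : ↥S, (((σ ^ k) x : ↥S) : V) = (f ^ k) x := by
    intro k
    induction k with
    | zero => intro x; rfl
    | succ k ih =>
      intro x
      rw [pow_succ', pow_succ', Equiv.Perm.mul_apply, Module.End.mul_apply, ← ih]
      rfl
  have hσ11 : σ ^ 11 = 1 := Equiv.ext fun x => Subtype.ext (by rw [hσ, hf]; rfl)
  haveI : Fact (Nat.Prime 11) := ⟨by norm_num⟩
  haveI : Finite ↥S := Module.finite_of_finite (ZMod 3)
  haveI : Fintype ↥S := Fintype.ofFinite _
  classical
  have hfix : ∀ x : ↥S, σ x = x → x = 0 := by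
    intro x hx
    have e : f (x : V) = x := congrArg Subtype.val hx
    have h0 := LinearMap.mem_ker.1 x.2
    rw [fiveA] at h0
    simp only [map_add, map_mul, map_pow, aeval_X, map_ofNat, LinearMap.add_apply,
      Module.End.mul_apply, Module.End.ofNat_apply, pow_succ', pow_zero, mul_one, e] at h0
    have : (8 : ℕ) • (x : V) = 0 := by rw [← h0]; abel
    have h2 : (2 : ZMod 3) • (x : V) = 0 := by
      rw [← Nat.cast_smul_eq_nsmul (ZMod 3)] at this
      rwa [show ((8 : ℕ) : ZMod 3) = 2 by decide] at this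
    exact Subtype.ext ((smul_eq_zero.1 h2).resolve_left (by decide))
  have hgrp : IsPGroup 11 ↥(Subgroup.zpowers σ) := by
    intro ⟨g, hg⟩
    obtain ⟨k, rfl⟩ := Subgroup.mem_zpowers_iff.1 hg
    exact ⟨1, Subtype.ext (by
      rw [SubmonoidClass.coe_pow, OneMemClass.coe_one, pow_one, ← zpow_natCast, ← zpow_mul,
        mul_comm, zpow_mul, zpow_natCast, hσ11, one_zpow])⟩
  have hcong := hgrp.card_modEq_card_fixedPoints (↥S)
  have hone : Nat.card (MulAction.fixedPoints ↥(Subgroup.zpowers σ) ↥S) = 1 := by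
    rw [Nat.card_eq_one_iff_unique]
    refine ⟨⟨fun a b => Subtype.ext ?_⟩, ⟨⟨0, fun g => ?_⟩⟩⟩
    · have key : ∀ a : MulAction.fixedPoints ↥(Subgroup.zpowers σ) ↥S, (a : ↥S) = 0 := fun a =>
        hfix _ (a.2 ⟨σ, Subgroup.mem_zpowers σ⟩)
      rw [key a, key b]
    · obtain ⟨g, hg⟩ := g
      show g (0 : ↥S) = 0
      obtain ⟨k, rfl⟩ := Subgroup.mem_zpowers_iff.1 hg
      exact Equiv.Perm.zpow_apply_eq_self_of_apply_eq_self (Subtype.ext (map_zero f)) k
  rw [hone, Module.natCard_eq_pow_finrank (K := ZMod 3), Nat.card_zmod] at hcong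
  have hk : Module.finrank (ZMod 3) ↥S < 4 := by omega
  generalize Module.finrank (ZMod 3) ↥S = k at hcong hk ⊢
  interval_cases k <;> first | rfl | exact absurd hcong (by decide)

/-- No isometry has order eleven. -/
theorem not_eleven_dvd (Q : QuadraticForm (ZMod 3) (Fin 7 → ZMod 3))
    (hQ : (polarBilin Q).Nondegenerate) :
    ¬ 11 ∣ Nat.card ↥(Cfsg.isometryGroup (ZMod 3) ⇑Q) := by
  intro h11
  haveI : Fact (Nat.Prime 11) := ⟨by norm_num⟩
  obtain ⟨g, hg⟩ := exists_prime_orderOf_dvd_card' 11 h11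
  let M : Matrix (Fin 7) (Fin 7) (ZMod 3) := ((g : GL (Fin 7) (ZMod 3)) : Matrix _ _ _)
  let f : Module.End (ZMod 3) (Fin 7 → ZMod 3) := Matrix.toLin' M
  have hM : M ^ 11 = 1 := by
    have h : g ^ 11 = 1 := hg ▸ pow_orderOf_eq_one g
    have := congrArg (fun x : ↥(Cfsg.isometryGroup (ZMod 3) ⇑Q) =>
      ((x : GL (Fin 7) (ZMod 3)) : Matrix (Fin 7) (Fin 7) (ZMod 3))) h
    simpa [M] using this
  have hf : f ^ 11 = 1 := by
    rw [← Matrix.toLin'_pow, hM, Matrix.toLin'_one]; rfl
  have hQf : ∀ u, Q (f u) = Q u := fun u => by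
    have := g.2 u u
    simpa [f, M, Matrix.toLin'_apply] using this
  have hB : ∀ u v, polarBilin Q (f u) (f v) = polarBilin Q u v := fun u v => by
    simp only [polarBilin_apply_apply, polar]
    rw [← map_add f, hQf, hQf, hQf]
  have hrefl : (polarBilin Q).IsRefl := fun u v h => by
    rw [polarBilin_apply_apply, polar_comm]; exact h
  have hdim : Module.finrank (ZMod 3) (Fin 7 → ZMod 3) = 7 := by simp
  have hA := ker_eq_bot (polarBilin Q) f hQ hrefl hdim hB hf
  -- the second factor is the first for the inverse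
  have hBker : ∀ x, aeval f fiveB x = 0 → x = 0 := by
    intro x hx
    refine ker_eq_bot (polarBilin Q) (f ^ 10) hQ hrefl hdim
      (fun u v => isometry_pow _ f hB 10 u v) (by rw [← pow_mul, mul_comm, pow_mul, hf, one_pow]) x ?_
    have e : ∀ k z, (f ^ (k + 11)) z = (f ^ k) z := fun k z => by rw [pow_add, hf, mul_one]
    have h5 : (f ^ 5) (aeval (f ^ 10) fiveA x) = 2 • aeval f fiveB x := by
      rw [fiveA, fiveB]
      simp only [map_add, map_mul, map_pow, aeval_X, map_ofNat, LinearMap.add_apply,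
        Module.End.mul_apply, Module.End.ofNat_apply, map_nsmul, ← pow_mul]
      simp only [← Module.End.mul_apply, ← pow_add]
      norm_num
      rw [show (55 : ℕ) = 0 + 11 + 11 + 11 + 11 + 11 by norm_num,
        show (35 : ℕ) = 2 + 11 + 11 + 11 by norm_num, show (25 : ℕ) = 3 + 11 + 11 by norm_num,
        show (15 : ℕ) = 4 + 11 by norm_num, e, e, e, e, e, e, e, e, e, e, e]
      have h3 : ∀ z : Fin 7 → ZMod 3, (3 : ℕ) • z = 0 := fun z => by
        rw [← Nat.cast_smul_eq_nsmul (ZMod 3), show ((3 : ℕ) : ZMod 3) = 0 by decide, zero_smul]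
      simp only [pow_zero, Module.End.one_apply]
      have h4 : ∀ z : Fin 7 → ZMod 3, 2 * (2 * z) = z := fun z => funext fun i => by
        show (2 : ZMod 3) * (2 * z i) = z i
        generalize z i = a
        revert a; decide
      rw [h4, h4]
      ring
    rw [hx, smul_zero] at h5
    have := congrArg (⇑((f ^ 6 : Module.End (ZMod 3) (Fin 7 → ZMod 3)))) h5
    rw [map_zero] at this
    rwa [← Module.End.mul_apply (f ^ 6), ← pow_add, show 6 + 5 = 11 by norm_num, hf,
      Module.End.one_apply] at this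
  have h1 : f = 1 := by
    refine LinearMap.ext fun x => sub_eq_zero.1 (hA _ (hBker _ ?_))
    have h := congrArg (fun p => aeval f p x) factor_eleven
    simp only [map_sub, map_one, map_pow, aeval_X, hf, sub_self, LinearMap.zero_apply] at h
    rw [show (f x - (1 : Module.End (ZMod 3) (Fin 7 → ZMod 3)) x) = aeval f ((X : (ZMod 3)[X]) - 1) x by
      simp, ← Module.End.mul_apply, ← Module.End.mul_apply, ← map_mul, ← map_mul,
      show fiveB * fiveA * (X - 1) = (X - 1) * fiveA * fiveB by ring]
    exact h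
  have hM1 : M = 1 := by
    have := congrArg LinearMap.toMatrix' h1
    simpa [f] using this
  have : g = 1 := Subtype.ext (Units.ext hM1)
  rw [this, orderOf_one] at hg
  norm_num at hg

end Cfsg.Agent.H89.NoEleven
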