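import Cfsg.Agent.H89.M23.Relations
import Cfsg.Agent.H89.M23.NoEleven
import Cfsg.Agent.H89.M23.ParamCheck
import Cfsg.Agent.H43.M22Graph

/-! The strongly regular graph of a class of type M(23): 31671 members, 3510 partners of each,
693 common partners of two commuting and 351 of two non-commuting members. -/

set_option autoImplicit false

open Cfsg

namespace Cfsg.Agent.H89.M23

open Subgroup H43.FischerTwins H53

variable {G : Type*} [Group G] [Finite G] {D : Set G}

omit [Finite G] in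
/-- A set of partners has as many members as its image modulo the centre. -/
theorem ncard_image_near (hD : Cfsg.IsThreeTranspositionGroup D) {d : G} (hS : Sub D d) {X : Set G}
    (hX : X ⊆ Sset D d) :
    X.ncard = ((QuotientGroup.mk : ↥(closure (Sset D d)) → NearQuot D d) ''
      {y | (y : G) ∈ X}).ncard := by
  have hH := sub_group hD (Sset D d) (fun y hy => hy.1) (fun s hs t ht => sset_stable hD d hs ht)
  have himg : (Subtype.val : ↥(closure (Sset D d)) → G) '' {y | (y : G) ∈ X} = X := by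
    ext x
    exact ⟨fun ⟨y, hy, e⟩ => e ▸ hy, fun hx => ⟨⟨x, subset_closure (hX hx)⟩, hx, rfl⟩⟩
  have h1 := Set.ncard_image_of_injective {y : ↥(closure (Sset D d)) | (y : G) ∈ X}
    Subtype.val_injective
  rw [himg] at h1
  rw [h1, Set.InjOn.ncard_image]
  exact fun x hx y hy e => mk_inj hH (hX hx) (hX hy) (hS.nc (hX hx)) e

variable (hD : Cfsg.IsThreeTranspositionClass D) (hprim : Cfsg.IsPrimitiveUnderConj D)
  (h23 : Cfsg.IsOfTypeM23 G D)
include hD hprim h23

/-- Two different commuting members exist. -/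
theorem width_pair : ∃ a ∈ D, ∃ b ∈ D, a ≠ b ∧ Commute a b := by
  obtain ⟨d, -, -, -, -, p, hp, q, hq, hne, hpq⟩ := m23_sub hD hprim h23
  exact ⟨p, hp.1, q, hq.1, hne, hpq⟩

/-- Every member has 3510 partners. -/
theorem sset_ncard {a : G} (ha : a ∈ D) : (Sset D a).ncard = 3510 := by
  obtain ⟨d, hd, hcl, hpr, h22, -⟩ := m23_sub hD hprim h23
  obtain ⟨g, rfl⟩ := H17.class_transitive hD hd ha
  rw [show g * d * g⁻¹ = MulAut.conj g d from rfl,
    ← image_sset (MulAut.conj g) (fun x hx => H17.class_conj hD g x hx) d,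
    Set.ncard_image_of_injective _ (MulAut.conj g).injective,
    ncard_image_near (H17.class_group hD) (m23_subs hD hprim h23 d hd) subset_rfl]
  exact (H43.M22.counts hcl hpr h22).1

/-- Two commuting members have 693 further common partners. -/
theorem near_ncard {a b : G} (ha : a ∈ D) (hb : b ∈ Sset D a) :
    ({x | x ∈ Sset D a ∧ x ≠ b ∧ Commute b x}).ncard = 693 := by
  obtain ⟨d, hd, hcl, hpr, h22, -⟩ := m23_sub hD hprim h23
  obtain ⟨g, rfl⟩ := H17.class_transitive hD hd ha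
  obtain ⟨b, rfl⟩ : ∃ b', g * b' * g⁻¹ = b := ⟨g⁻¹ * b * g, by group⟩
  have hconj := H17.class_conj hD
  rw [sset_conj hconj] at hb
  have e : {x | x ∈ Sset D (g * d * g⁻¹) ∧ x ≠ g * b * g⁻¹ ∧ Commute (g * b * g⁻¹) x} =
      MulAut.conj g '' {x | x ∈ Sset D d ∧ x ≠ b ∧ Commute b x} := by
    ext x
    obtain ⟨x, rfl⟩ : ∃ x', g * x' * g⁻¹ = x := ⟨g⁻¹ * x * g, by group⟩
    rw [show g * x * g⁻¹ = MulAut.conj g x from rfl, (MulAut.conj g).injective.mem_set_image]
    simp only [Set.mem_setOf_eq, MulAut.conj_apply, sset_conj hconj, H17.commute_conj, ne_eq,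
      mul_left_inj, mul_right_inj]
  rw [e, Set.ncard_image_of_injective _ (MulAut.conj g).injective]
  have hG := H17.class_group hD
  have hS := m23_subs hD hprim h23 d hd
  have hH := sub_group hG (Sset D d) (fun y hy => hy.1) (fun s hs t ht => sset_stable hG d hs ht)
  rw [ncard_image_near hG hS fun x hx => hx.1]
  let b' : ↥(closure (Sset D d)) := ⟨b, subset_closure hb⟩
  rw [show (QuotientGroup.mk : ↥(closure (Sset D d)) → NearQuot D d) ''
      {y | (y : G) ∈ {x | x ∈ Sset D d ∧ x ≠ b ∧ Commute b x}} =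
      Sset (nearImage D d) (QuotientGroup.mk b') from ?_]
  · exact H43.M22.sset_ncard hcl hpr h22 ⟨b', hb, rfl⟩
  ext z
  constructor
  · rintro ⟨y, ⟨hy, hne, hc⟩, rfl⟩
    exact ⟨⟨y, hy, rfl⟩, fun e => hne (congrArg Subtype.val (mk_inj hH hy hb (hS.nc hy) e)),
      (mk_commute hH (x := b') hb hy).2 (commute_coe.1 hc)⟩
  · rintro ⟨⟨y, hy, rfl⟩, hne, hc⟩
    exact ⟨y, ⟨hy, fun e => hne (congrArg QuotientGroup.mk (Subtype.ext e)),
      commute_coe.2 ((mk_commute hH (x := b') hb hy).1 hc)⟩, rfl⟩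

/-- Three members, two of them non-commuting partners of the third, have 126 common partners. -/
theorem far_ncard {a u v : G} (ha : a ∈ D) (hu : u ∈ Sset D a) (hv : v ∈ Sset D a)
    (huv : ¬ Commute u v) :
    ({y | y ∈ Sset D a ∧ Commute u y ∧ Commute v y}).ncard = 126 := by
  obtain ⟨d, hd, hcl, hpr, h22, -⟩ := m23_sub hD hprim h23
  obtain ⟨g, rfl⟩ := H17.class_transitive hD hd ha
  obtain ⟨u, rfl⟩ : ∃ u', g * u' * g⁻¹ = u := ⟨g⁻¹ * u * g, by group⟩
  obtain ⟨v, rfl⟩ : ∃ v', g * v' * g⁻¹ = v := ⟨g⁻¹ * v * g, by group⟩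
  have hconj := H17.class_conj hD
  rw [sset_conj hconj] at hu hv
  rw [H17.commute_conj] at huv
  have e : {y | y ∈ Sset D (g * d * g⁻¹) ∧ Commute (g * u * g⁻¹) y ∧ Commute (g * v * g⁻¹) y} =
      MulAut.conj g '' {y | y ∈ Sset D d ∧ Commute u y ∧ Commute v y} := by
    ext x
    obtain ⟨x, rfl⟩ : ∃ x', g * x' * g⁻¹ = x := ⟨g⁻¹ * x * g, by group⟩
    rw [show g * x * g⁻¹ = MulAut.conj g x from rfl, (MulAut.conj g).injective.mem_set_image]
    simp only [Set.mem_setOf_eq, MulAut.conj_apply, sset_conj hconj, H17.commute_conj]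
  rw [e, Set.ncard_image_of_injective _ (MulAut.conj g).injective]
  have hG := H17.class_group hD
  have hS := m23_subs hD hprim h23 d hd
  have hH := sub_group hG (Sset D d) (fun y hy => hy.1) (fun s hs t ht => sset_stable hG d hs ht)
  rw [ncard_image_near hG hS fun x hx => hx.1]
  let u' : ↥(closure (Sset D d)) := ⟨u, subset_closure hu⟩
  let v' : ↥(closure (Sset D d)) := ⟨v, subset_closure hv⟩
  rw [show (QuotientGroup.mk : ↥(closure (Sset D d)) → NearQuot D d) ''
      {y | (y : G) ∈ {x | x ∈ Sset D d ∧ Commute u x ∧ Commute v x}} =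
      H17.common (nearImage D d) (QuotientGroup.mk u') (QuotientGroup.mk v') from ?_]
  · exact (H43.M22.counts hcl hpr h22).2 _ ⟨u', hu, rfl⟩ _ ⟨v', hv, rfl⟩
      fun h => huv (commute_coe.2 ((mk_commute hH (x := u') (y := v') hu hv).1 h))
  ext z
  constructor
  · rintro ⟨y, ⟨hy, h1, h2⟩, rfl⟩
    exact ⟨⟨y, hy, rfl⟩, (mk_commute hH (x := u') hu hy).2 (commute_coe.1 h1),
      (mk_commute hH (x := v') hv hy).2 (commute_coe.1 h2)⟩
  · rintro ⟨⟨y, hy, rfl⟩, h1, h2⟩
    exact ⟨y, ⟨hy, commute_coe.2 ((mk_commute hH (x := u') hu hy).1 h1),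
      commute_coe.2 ((mk_commute hH (x := v') hv hy).1 h2)⟩, rfl⟩

/-- The number of common partners does not depend on the non-commuting pair. -/
theorem mu_const {a b d c : G} (ha : a ∈ D) (hb : b ∈ D) (hab : ¬ Commute a b) (hd : d ∈ D)
    (hc : c ∈ D) (hdc : ¬ Commute d c) :
    (H17.common D a b).ncard = (H17.common D d c).ncard := by
  have hconj := H17.class_conj hD
  obtain ⟨g, rfl⟩ := H17.class_transitive hD ha hd
  rw [← H17.common_ncard_conj hconj g a b]
  exact H17.common_ncard_eq hD hprim (width_pair hD hprim h23) hd (hconj g b hb) hc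
    (fun h => hab ((H17.commute_conj g).1 h)) hdc

/-- The common partners are fewer than all partners. -/
theorem mu_lt {d c : G} (hd : d ∈ D) (hc : c ∈ D) (hdc : ¬ Commute d c) :
    (H17.common D d c).ncard < 3510 := by
  have hw := width_pair hD hprim h23
  rw [H43.M22.common_far_eq hdc]
  by_contra hge
  push Not at hge
  have e1 := Set.eq_of_subset_of_ncard_le (Set.inter_subset_left (t := Sset D c))
    (by rw [sset_ncard hD hprim h23 hd]; exact hge) (Set.toFinite _)
  have e2 := Set.eq_of_subset_of_ncard_le (Set.inter_subset_right (s := Sset D d))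
    (by rw [sset_ncard hD hprim h23 hc]; exact hge) (Set.toFinite _)
  have hW : H17.Wrel D d c := ⟨hd, hc, fun y hy => by
    have h1 := Set.ext_iff.1 e1 y
    have h2 := Set.ext_iff.1 e2 y
    simp only [Sset, Set.mem_inter_iff, Set.mem_setOf_eq, hy, true_and] at h1 h2
    tauto⟩
  exact hdc (H17.wrel_eq hD hprim hw hW ▸ Commute.refl d)

/-- 715 common partners are impossible: the reflection group has no class of that size. -/
theorem mu_ne {d c : G} (hd : d ∈ D) (hc : c ∈ D) (hdc : ¬ Commute d c) :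
    (H17.common D d c).ncard ≠ 715 := by
  classical
  obtain ⟨-, d₁, hd₁, c₁, hc₁, hdc₁, -, c₃, -, Q, hQ, -, ⟨ψ⟩⟩ := id h23
  rw [mu_const hD hprim h23 hd hc hdc hd₁ hc₁ hdc₁, H43.M22.common_far_eq hdc₁]
  intro h715
  have hG := H17.class_group hD
  have hconj := hG.2.1
  set T := Sset D d₁ ∩ Sset D c₁ with hT
  have hTconj : ∀ s ∈ T, ∀ t ∈ T, s * t * s⁻¹ ∈ T := fun s hs t ht =>
    ⟨sset_stable hG d₁ hs.1 ht.1, sset_stable hG c₁ hs.2 ht.2⟩
  set L := Subgroup.closure T with hL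
  have stable : ∀ g ∈ L, ∀ t ∈ T, g * t * g⁻¹ ∈ T ∧ g⁻¹ * t * g ∈ T := by
    intro g hg
    induction hg using Subgroup.closure_induction with
    | mem s hs =>
      intro t ht
      have h := hTconj s hs t ht
      refine ⟨h, ?_⟩
      rwa [H17.inv_self hG.1 hs.1.1] at h ⊢
    | one => intro t ht; simpa using And.intro ht ht
    | mul a b _ _ iha ihb =>
      intro t ht
      constructor
      · simpa [mul_assoc] using (iha _ (ihb t ht).1).1
      · simpa [mul_assoc] using (ihb _ (iha t ht).2).2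
    | inv a _ iha => intro t ht; simpa [and_comm] using iha t ht
  -- the component of a member under non-commutation
  let C : G → Set G := fun x => {y | y ∈ T ∧ ∃ g ∈ L, g * x * g⁻¹ = y}
  have hclosed : ∀ x ∈ T, ∀ y ∈ C x, ∀ z ∈ T, ¬ Commute y z → z ∈ C x := by
    intro x hx y ⟨hy, g, hg, hgy⟩ z hz hyz
    refine ⟨hz, y * z * g, mul_mem (mul_mem (Subgroup.subset_closure hy)
      (Subgroup.subset_closure hz)) hg, ?_⟩
    calc y * z * g * x * (y * z * g)⁻¹ = y * z * (g * x * g⁻¹) * (z⁻¹ * y⁻¹) := by group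
      _ = y * z * y * (z * y) := by rw [hgy, H17.inv_self hG.1 hz.1.1, H17.inv_self hG.1 hy.1.1]
      _ = y * (z * y * z) * y := by simp only [mul_assoc]
      _ = (y * y) * z * (y * y) := by
        rw [H17.braid hG.1 hz.1.1 hy.1.1 fun e => hyz e.symm]; simp only [mul_assoc]
      _ = z := by rw [H17.sq_one hG.1 hy.1.1, one_mul, mul_one]
  have hbig : ∀ x ∈ T, 715 ≤ (C x).ncard + 126 := by
    intro x hx
    have hxd : d₁ ∈ Sset D x := ⟨hd₁, hx.1.2.1.symm, hx.1.2.2.symm⟩
    have hxc : c₁ ∈ Sset D x := ⟨hc₁, hx.2.2.1.symm, hx.2.2.2.symm⟩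
    have hb := far_ncard hD hprim h23 hx.1.1 hxd hxc hdc₁
    have hxC : x ∈ C x := ⟨hx, 1, one_mem _, by simp⟩
    have hsub : T ⊆ C x ∪ {y | y ∈ Sset D x ∧ Commute d₁ y ∧ Commute c₁ y} := by
      intro y hy
      by_cases hyC : y ∈ C x
      · exact Or.inl hyC
      refine Or.inr ⟨⟨hy.1.1, fun e => hyC (e ▸ hxC), ?_⟩, hy.1.2.2, hy.2.2.2⟩
      by_contra hc
      exact hyC (hclosed x hx x hxC y hy hc)
    have := (Set.ncard_le_ncard hsub (Set.toFinite _)).trans (Set.ncard_union_le _ _)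
    omega
  obtain ⟨x₀, hx₀⟩ : T.Nonempty := Set.nonempty_of_ncard_ne_zero (by rw [h715]; norm_num)
  have hone : C x₀ = T := by
    refine Set.Subset.antisymm (fun y hy => hy.1) fun y hy => ?_
    by_contra hyC
    have hdisj : Disjoint (C x₀) (C y) := Set.disjoint_left.2 fun z hz1 hz2 => by
      obtain ⟨-, g, hg, hgz⟩ := hz1
      obtain ⟨-, k, hk, hkz⟩ := hz2
      refine hyC ⟨hy, k⁻¹ * g, mul_mem (inv_mem hk) hg, ?_⟩
      calc k⁻¹ * g * x₀ * (k⁻¹ * g)⁻¹ = k⁻¹ * (g * x₀ * g⁻¹) * k := by group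
        _ = y := by rw [hgz, ← hkz]; group
    have hu := Set.ncard_le_ncard (show C x₀ ∪ C y ⊆ T from
      Set.union_subset (fun z hz => hz.1) (fun z hz => hz.1)) (Set.toFinite _)
    rw [Set.ncard_union_eq hdisj (Set.toFinite _) (Set.toFinite _), h715] at hu
    have := hbig x₀ hx₀
    have := hbig y hy
    omega
  -- the class divides the order of the reflection group
  letI actT : MulAction ↥L ↥T :=
    { smul := fun g t => ⟨(g : G) * t * (g : G)⁻¹, (stable g g.2 t t.2).1⟩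
      one_smul := fun t => Subtype.ext (by show ((1 : ↥L) : G) * t * ((1 : ↥L) : G)⁻¹ = t; simp)
      mul_smul := fun g k t => Subtype.ext (by
        show ((g * k : ↥L) : G) * t * ((g * k : ↥L) : G)⁻¹ = g * (k * t * (k : G)⁻¹) * (g : G)⁻¹
        push_cast; group) }
  let x₁ : ↥T := ⟨x₀, hx₀⟩
  have horb : (MulAction.orbit ↥L x₁).ncard = 715 := by
    rw [Set.eq_univ_of_forall (s := MulAction.orbit ↥L x₁) fun y => ?_, Set.ncard_univ,
      Nat.card_coe_set_eq, h715]
    obtain ⟨-, g, hg, hgy⟩ := (hone.symm ▸ y.2 : (y : G) ∈ C x₀)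
    exact ⟨⟨g, hg⟩, Subtype.ext hgy⟩
  have hdvd : 715 ∣ Nat.card (↥L ⧸ Subgroup.center ↥L) := by
    rw [← horb, ← MulAction.index_stabilizer, ← Subgroup.index_eq_card]
    refine Subgroup.index_dvd_of_le fun g hg => ?_
    rw [MulAction.mem_stabilizer_iff]
    refine Subtype.ext ?_
    show (g : G) * x₀ * (g : G)⁻¹ = x₀
    have h := congrArg Subtype.val
      (Subgroup.mem_center_iff.1 hg ⟨x₀, Subgroup.subset_closure hx₀⟩)
    simp only [Subgroup.coe_mul] at h
    rw [← h, mul_inv_cancel_right]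
  have hL' : ↥L ⧸ Subgroup.center ↥L ≃* Cfsg.reflectionSubgroup (⇑Q) c₃ ⧸
      Subgroup.center (Cfsg.reflectionSubgroup (⇑Q) c₃) := ψ
  refine H89.NoEleven.not_eleven_dvd Q hQ ?_
  have h11 : 11 ∣ Nat.card (↥L ⧸ Subgroup.center ↥L) := dvd_trans (by norm_num) hdvd
  rw [Nat.card_congr hL'.toEquiv] at h11
  exact h11.trans ((Subgroup.card_quotient_dvd_card _).trans (Subgroup.card_subgroup_dvd_card _))

/-- There are 31671 members and 351 common partners. -/
theorem counts : D.ncard = 31671 ∧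
    ∀ d ∈ D, ∀ c ∈ D, ¬ Commute d c → (H17.common D d c).ncard = 351 := by
  classical
  have hw := width_pair hD hprim h23
  obtain ⟨-, d₀, hd₀, c₀, hc₀, hdc₀, -⟩ := id h23
  set μ := (H17.common D d₀ c₀).ncard with hμ
  have hconst : ∀ d ∈ D, ∀ c ∈ D, ¬ Commute d c → (H17.common D d c).ncard = μ :=
    fun d hd c hc hdc => mu_const hD hprim h23 hd hc hdc hd₀ hc₀ hdc₀
  haveI : Fintype ↥D := Fintype.ofFinite _
  let Γ := Cfsg.commutingGraph D
  have hadj : ∀ a b : ↥D, Γ.Adj a b ↔ ((b : G) ∈ Sset D (a : G)) := by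
    intro a b
    show (Cfsg.commutingGraph D).Adj a b ↔ _
    rw [Cfsg.commutingGraph, SimpleGraph.fromRel_adj]
    constructor
    · rintro ⟨hne, h⟩
      exact ⟨b.2, fun e => hne (Subtype.ext e.symm), h.elim id Commute.symm⟩
    · rintro ⟨-, hne, h⟩
      exact ⟨fun e => hne (by rw [e]), Or.inl h⟩
  have hcount : ∀ S : Set ↥D, ∀ X : Set G, X ⊆ D → (∀ b : ↥D, b ∈ S ↔ (b : G) ∈ X) →
      Nat.card S = X.ncard := by
    intro S X hX h
    rw [Nat.card_coe_set_eq, ← Set.ncard_image_of_injective _ Subtype.val_injective]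
    congr 1
    ext x
    exact ⟨fun ⟨b, hb, e⟩ => e ▸ (h b).1 hb, fun hx => ⟨⟨x, hX hx⟩, (h _).2 hx, rfl⟩⟩
  have hsrg : Γ.IsSRGWith D.ncard 3510 693 μ := by
    refine ⟨by rw [← Nat.card_eq_fintype_card, Nat.card_coe_set_eq], fun v => ?_, fun v u h => ?_,
      fun v u hne h => ?_⟩
    · rw [← SimpleGraph.card_neighborSet_eq_degree, ← Nat.card_eq_fintype_card,
        hcount (Γ.neighborSet v) (Sset D (v : G)) (fun x hx => hx.1) fun b => hadj v b]
      exact sset_ncard hD hprim h23 v.2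
    · rw [← Nat.card_eq_fintype_card, hcount _
        {x | x ∈ Sset D (v : G) ∧ x ≠ (u : G) ∧ Commute (u : G) x} (fun x hx => hx.1.1) fun b => ?_]
      · exact near_ncard hD hprim h23 v.2 ((hadj v u).1 h)
      · rw [SimpleGraph.mem_commonNeighbors, hadj, hadj]
        exact ⟨fun h => ⟨h.1, h.2.2.1, h.2.2.2⟩, fun h => ⟨h.1, b.2, h.2.1, h.2.2⟩⟩
    · have hnc : ¬ Commute (v : G) (u : G) := fun hc =>
        h ((hadj v u).2 ⟨u.2, fun e => hne (Subtype.ext e.symm), hc⟩)
      rw [← Nat.card_eq_fintype_card, hcount _ (Sset D (v : G) ∩ Sset D (u : G))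
        (fun x hx => hx.1.1) fun b => ?_, ← H43.M22.common_far_eq hnc]
      · exact hconst v v.2 u u.2 hnc
      · rw [SimpleGraph.mem_commonNeighbors, hadj, hadj]; rfl
  have hn : 0 < D.ncard := (Set.ncard_pos (Set.toFinite _)).2 ⟨d₀, hd₀⟩
  have hp := hsrg.param_eq _ hn
  have hμlt : μ < 3510 := mu_lt hD hprim h23 hd₀ hc₀ hdc₀
  have hμ0 : μ ≠ 0 := fun h => by rw [h, mul_zero] at hp; norm_num at hp
  have hn3511 : 3511 ≤ D.ncard := by
    by_contra hlt
    rw [show D.ncard - 3510 - 1 = 0 by omega, zero_mul] at hp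
    norm_num at hp
  have hprod : (D.ncard - 3511) * μ = 9884160 := by
    rw [show D.ncard - 3510 - 1 = D.ncard - 3511 by omega] at hp
    rw [← hp]
  have hdiv : 9884160 % μ = 0 := Nat.mod_eq_zero_of_dvd ⟨D.ncard - 3511, by rw [mul_comm, hprod]⟩ |>.symm.symm
  have hquot : 9884160 / μ = D.ncard - 3511 :=
    Nat.div_eq_of_eq_mul_left (Nat.pos_of_ne_zero hμ0) hprod.symm
  obtain ⟨j, hj⟩ := H9.srg_integrality Γ hsrg hn (by
    have : (μ : ℤ) < 3510 := by exact_mod_cast hμlt
    push_cast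
    nlinarith [sq_nonneg ((693 : ℤ) - μ)])
  have hchk := param_check hμlt hdiv
  rcases hchk (by
    rw [hquot, show ((3511 : ℤ) + ((D.ncard - 3511 : ℕ) : ℤ)) = (D.ncard : ℤ) by omega]
    push_cast at hj
    have e := congrArg Int.natAbs hj
    rw [Int.natAbs_pow, Int.natAbs_mul _ (j ^ 2), Int.natAbs_pow, pow_two, pow_two j.natAbs] at e
    rw [show (2 : ℤ) * 3510 = 7020 by norm_num]
    dsimp only
    rw [e]
    set A := (((693 : ℤ) - (μ : ℤ)) ^ 2 + 4 * (3510 - (μ : ℤ))).natAbs with hA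
    rw [show A * (A * (j.natAbs * j.natAbs)) = (A * j.natAbs) * (A * j.natAbs) by ring,
      Nat.sqrt_eq]) with h | h | h
  · refine ⟨?_, fun d hd c hc hdc => (hconst d hd c hc hdc).trans h⟩
    replace h : μ = 351 := h
    rw [h] at hprod
    omega
  · exact absurd h (mu_ne hD hprim h23 hd₀ hc₀ hdc₀)
  · exact absurd h hμ0

end Cfsg.Agent.H89.M23
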